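import Cfsg.Agent.Lib.PSL2.DicksonOrders
import Cfsg.Agent.Lib.PSL2.MaximalExist
import Mathlib.NumberTheory.LSeries.PrimesInAP

/-!
# Hall numbers: counterexamples `PSL(2, r)`

For `m` not a prime power, not `2 (mod 4)` and not 12, 24, 60 choose by Dirichlet a prime `r` with the exact
prime powers of `m` distributed over `r - 1` and `r + 1`; Dickson's list has no subgroup of order `m`.
-/

set_option autoImplicit false
set_option linter.style.haveILetI false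

namespace Cfsg.Agent.HallNumber

open Subgroup Matrix
open scoped MatrixGroups

theorem exists_split {m : ℕ} (hm : 2 ≤ m) (hpp : ¬ IsPrimePow m) (h4 : m % 4 ≠ 2) :
    ∃ p q : ℕ, p.Prime ∧ q.Prime ∧ p ≠ q ∧ p ∣ m ∧ q ∣ m ∧ q ≠ 2 ∧ (p = 2 → 4 ∣ m) ∧
      (2 ∣ m → p = 2) := by
  have h2 : ∃ p q : ℕ, p.Prime ∧ q.Prime ∧ p ≠ q ∧ p ∣ m ∧ q ∣ m := by
    obtain ⟨p, hp, hpd⟩ := Nat.exists_prime_and_dvd (show m ≠ 1 by omega)
    by_contra hno
    push Not at hno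
    refine hpp ((isPrimePow_nat_iff m).2 ⟨p, m.factorization p, hp,
      hp.factorization_pos_of_dvd (by omega) hpd, ?_⟩)
    refine Nat.eq_of_factorization_eq (pow_ne_zero _ hp.ne_zero) (by omega) fun r => ?_
    rw [hp.factorization_pow]
    by_cases hr : r = p
    · simp [hr]
    · rw [Finsupp.single_eq_of_ne hr, eq_comm, Nat.factorization_eq_zero_iff]
      by_cases hrp : r.Prime
      · exact Or.inr (Or.inl fun hd => hno p r hp hrp (Ne.symm hr) hpd hd)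
      · exact Or.inl hrp
  obtain ⟨p, q, hp, hq, hpq, hpd, hqd⟩ := h2
  by_cases hev : 2 ∣ m
  · have h4m : 4 ∣ m := by omega
    rcases eq_or_ne q 2 with rfl | hq2
    · exact ⟨2, p, Nat.prime_two, hp, hpq.symm, hev, hpd, hpq, fun _ => h4m, fun _ => rfl⟩
    · exact ⟨2, q, Nat.prime_two, hq, hq2.symm, hev, hqd, hq2, fun _ => h4m, fun _ => rfl⟩
  · exact ⟨p, q, hp, hq, hpq, hpd, hqd, fun e => hev (e ▸ hqd), fun e => absurd (e ▸ hpd) hev,
      fun e => absurd e hev⟩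

/-- A number with a prescribed power of `ℓ` one above it (`d = true`) or one below it. -/
theorem exists_residue (m q : ℕ) (hm : m ≠ 0) :
    ∃ N a : ℕ, N ≠ 0 ∧ a.Coprime N ∧ ∀ ℓ ∈ m.primeFactors, ℓ ^ (m.factorization ℓ + 1) ∣ N ∧
      (a % ℓ ^ (m.factorization ℓ + 1) = if ℓ = q then ℓ ^ m.factorization ℓ - 1 else ℓ ^ m.factorization ℓ + 1) := by
  classical
  set t := m.primeFactors
  let s : ℕ → ℕ := fun ℓ => ℓ ^ (m.factorization ℓ + 1)
  let b : ℕ → ℕ := fun ℓ => if ℓ = q then ℓ ^ m.factorization ℓ - 1 else ℓ ^ m.factorization ℓ + 1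
  have hs : ∀ i ∈ t, s i ≠ 0 := fun i hi => pow_ne_zero _ (Nat.prime_of_mem_primeFactors hi).ne_zero
  have pp : Set.Pairwise (t : Set ℕ) (Function.onFun Nat.Coprime s) := fun i hi j hj hij =>
    Nat.Coprime.pow _ _ ((Nat.coprime_primes (Nat.prime_of_mem_primeFactors hi) (Nat.prime_of_mem_primeFactors hj)).2 hij)
  obtain ⟨a, ha⟩ := Nat.chineseRemainderOfFinset b s t hs pp
  have hpos : ∀ ℓ ∈ t, 0 < m.factorization ℓ := fun ℓ hℓ =>
    (Nat.prime_of_mem_primeFactors hℓ).factorization_pos_of_dvd hm (Nat.dvd_of_mem_primeFactors hℓ)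
  have hlt : ∀ ℓ ∈ t, b ℓ < s ℓ ∧ ¬ ℓ ∣ b ℓ := by
    intro ℓ hℓ
    have hl := Nat.prime_of_mem_primeFactors hℓ
    have he := hpos ℓ hℓ
    have h2 := hl.two_le
    have hp1 : 2 ≤ ℓ ^ m.factorization ℓ := le_trans h2 (Nat.le_self_pow he.ne' ℓ)
    have hp2 : 2 * ℓ ^ m.factorization ℓ ≤ s ℓ := by
      simp only [s]; rw [pow_succ, mul_comm]; exact Nat.mul_le_mul_left _ h2
    have hd : ℓ ∣ ℓ ^ m.factorization ℓ := dvd_pow_self ℓ he.ne'
    simp only [b]
    split_ifs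
    · refine ⟨by omega, fun h => hl.not_dvd_one ?_⟩
      have := Nat.dvd_sub hd h
      rwa [Nat.sub_sub_self (by omega)] at this
    · refine ⟨by omega, fun h => hl.not_dvd_one ?_⟩
      have := Nat.dvd_sub h hd
      rwa [Nat.add_sub_cancel_left] at this
  have hmod : ∀ ℓ ∈ t, a % s ℓ = b ℓ := fun ℓ hℓ => by
    have h1 : a % s ℓ = b ℓ % s ℓ := ha ℓ hℓ
    rwa [Nat.mod_eq_of_lt (hlt ℓ hℓ).1] at h1
  refine ⟨∏ i ∈ t, s i, a, Finset.prod_ne_zero_iff.2 hs, ?_, fun ℓ hℓ => ⟨Finset.dvd_prod_of_mem s hℓ, hmod ℓ hℓ⟩⟩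
  refine Nat.Coprime.prod_right fun ℓ hℓ => Nat.Coprime.pow_right _ ?_
  refine ((Nat.prime_of_mem_primeFactors hℓ).coprime_iff_not_dvd.2 fun hd => (hlt ℓ hℓ).2 ?_).symm
  rw [← hmod ℓ hℓ]
  exact (Nat.dvd_mod_iff (dvd_pow_self ℓ (by omega))).2 hd

theorem exists_counterexample {m : ℕ} (hm : 2 ≤ m) (hpp : ¬ IsPrimePow m) (h4 : m % 4 ≠ 2)
    (h12 : m ≠ 12) (h24 : m ≠ 24) (h60 : m ≠ 60) :
    ∃ (G : Type) (_ : Group G) (_ : Finite G), m ∣ Nat.card G ∧ m.Coprime (Nat.card G / m) ∧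
      ∀ H : Subgroup G, Nat.card H ≠ m := by
  classical
  obtain ⟨p, q, hp, hq, hpq, hpd, hqd, hq2, hp4, hpev⟩ := exists_split hm hpp h4
  have hm0 : m ≠ 0 := by omega
  obtain ⟨N, a, hN0, hcop, hres⟩ := exists_residue m q hm0
  obtain ⟨r, hr, hrp, hrmod⟩ := Nat.forall_exists_prime_gt_and_modEq (max m 5) hN0 hcop
  haveI := Fact.mk hrp
  have hrm : m < r := lt_of_le_of_lt (le_max_left _ _) hr
  have hr5 : 5 < r := lt_of_le_of_lt (le_max_right _ _) hr
  refine ⟨PSL(2, ZMod r), inferInstance, inferInstance, ?_⟩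
  have hF : Fintype.card (ZMod r) = r := ZMod.card r
  have hrodd : r % 2 = 1 := Nat.odd_iff.1 (hrp.odd_of_ne_two (by omega))
  have h2F : (2 : ZMod r) ≠ 0 := fun e => by
    have : r ∣ 2 := (ZMod.natCast_eq_zero_iff 2 r).1 (by exact_mod_cast e)
    have := Nat.le_of_dvd (by norm_num) this
    omega
  set n := Nat.card PSL(2, ZMod r)
  have hn : 2 * n = r * ((r - 1) * (r + 1)) := by
    have h := PSL2.two_mul_card_PSL (F := ZMod r) h2F
    rw [hF] at h
    rw [h, show r ^ 2 - 1 = (r + 1) * (r - 1) by simpa using Nat.sq_sub_sq r 1]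
    ring
  have hn0 : n ≠ 0 := Nat.card_pos.ne'
  -- the residues at the primes of `m`
  have hℓ : ∀ ℓ ∈ m.primeFactors, let e := m.factorization ℓ
      (0 < e) ∧ ((ℓ = q ∧ ℓ ^ e ∣ r + 1 ∧ ¬ ℓ ^ (e + 1) ∣ r + 1) ∨
        (ℓ ≠ q ∧ ℓ ^ e ∣ r - 1 ∧ ¬ ℓ ^ (e + 1) ∣ r - 1)) := by
    intro ℓ hmem e
    have hl := Nat.prime_of_mem_primeFactors hmem
    have he : 0 < e := hl.factorization_pos_of_dvd hm0 (Nat.dvd_of_mem_primeFactors hmem)
    obtain ⟨hdN, hmod⟩ := hres ℓ hmem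
    change a % ℓ ^ (e + 1) = if ℓ = q then ℓ ^ e - 1 else ℓ ^ e + 1 at hmod
    refine ⟨he, ?_⟩
    have hrm' : r % ℓ ^ (e + 1) = a % ℓ ^ (e + 1) := hrmod.of_dvd hdN
    have hpow : ℓ ^ (e + 1) = ℓ * ℓ ^ e := pow_succ' ℓ e
    have h1 : 1 < ℓ ^ e := Nat.one_lt_pow he.ne' hl.one_lt
    have h2 : 2 * ℓ ^ e ≤ ℓ ^ (e + 1) := hpow ▸ Nat.mul_le_mul_right _ hl.two_le
    have hdiv := Nat.div_add_mod r (ℓ ^ (e + 1))
    set Q := ℓ ^ (e + 1) * (r / ℓ ^ (e + 1)) with hQ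
    have hdQ : ℓ ^ (e + 1) ∣ Q := dvd_mul_right _ _
    have hdQ' : ℓ ^ e ∣ Q := (pow_dvd_pow ℓ (Nat.le_succ e)).trans hdQ
    by_cases hq' : ℓ = q
    · rw [if_pos hq'] at hmod
      rw [hrm', hmod] at hdiv
      have hr1 : r + 1 = Q + ℓ ^ e := by omega
      refine Or.inl ⟨hq', hr1 ▸ Nat.dvd_add hdQ' dvd_rfl, fun h => ?_⟩
      rw [hr1, Nat.dvd_add_right hdQ] at h
      exact absurd (Nat.le_of_dvd (by omega) h) (by omega)
    · rw [if_neg hq'] at hmod
      rw [hrm', hmod] at hdiv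
      have hr1 : r - 1 = Q + ℓ ^ e := by omega
      refine Or.inr ⟨hq', hr1 ▸ Nat.dvd_add hdQ' dvd_rfl, fun h => ?_⟩
      rw [hr1, Nat.dvd_add_right hdQ] at h
      exact absurd (Nat.le_of_dvd (by omega) h) (by omega)
  have hnr : ∀ ℓ ∈ m.primeFactors, ¬ ℓ ∣ r := fun ℓ hmem h => by
    have h1 := (Nat.prime_dvd_prime_iff_eq (Nat.prime_of_mem_primeFactors hmem) hrp).1 h
    have h2 := Nat.le_of_mem_primeFactors hmem
    omega
  have hside : ∀ ℓ, ℓ.Prime → ℓ ≠ 2 → ℓ ∣ r - 1 → ¬ ℓ ∣ r + 1 := fun ℓ hl hl2 h1 h2 => by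
    have := Nat.dvd_sub h2 h1
    rw [show r + 1 - (r - 1) = 2 by omega] at this
    exact hl2 ((Nat.prime_dvd_prime_iff_eq hl Nat.prime_two).1 this)
  have h4r : ∀ ℓ ∈ m.primeFactors, ℓ = 2 → 4 ∣ r - 1 := by
    intro ℓ hmem hl2
    subst hl2
    have hev : 2 ∣ m := Nat.dvd_of_mem_primeFactors hmem
    obtain ⟨-, h | ⟨-, hd, -⟩⟩ := hℓ 2 hmem
    · exact absurd h.1 (fun e => hq2 e.symm)
    · refine dvd_trans ?_ hd
      rw [show (4 : ℕ) = 2 ^ 2 by norm_num]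
      exact pow_dvd_pow 2 ((Nat.Prime.pow_dvd_iff_le_factorization Nat.prime_two hm0).1 (hp4 (hpev hev)))
  have hexact : ∀ ℓ ∈ m.primeFactors, n.factorization ℓ = m.factorization ℓ := by
    intro ℓ hmem
    have hl := Nat.prime_of_mem_primeFactors hmem
    have hnr' := hnr ℓ hmem
    obtain ⟨he, hcase⟩ := hℓ ℓ hmem
    have hsum : (2 * n).factorization ℓ =
        r.factorization ℓ + ((r - 1).factorization ℓ + (r + 1).factorization ℓ) := by
      rw [hn, Nat.factorization_mul hrp.ne_zero (Nat.mul_ne_zero (by omega) (by omega)),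
        Nat.factorization_mul (by omega) (by omega)]
      rfl
    rw [Nat.factorization_mul two_ne_zero hn0, Finsupp.add_apply, Nat.factorization_eq_zero_of_not_dvd hnr',
      zero_add] at hsum
    have hex : ∀ {A : ℕ}, A ≠ 0 → ℓ ^ m.factorization ℓ ∣ A → ¬ ℓ ^ (m.factorization ℓ + 1) ∣ A →
        A.factorization ℓ = m.factorization ℓ := fun hA h1 h2 => le_antisymm
      (not_lt.1 fun h => h2 ((hl.pow_dvd_iff_le_factorization hA).2 h))
      ((hl.pow_dvd_iff_le_factorization hA).1 h1)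
    by_cases hl2 : ℓ = 2
    · have h41 := h4r ℓ hmem hl2
      subst hl2
      obtain ⟨-, hd, hnd⟩ := hcase.resolve_left fun h => hq2 h.1.symm
      have h21 : (r + 1).factorization 2 = 1 := le_antisymm
        (not_lt.1 fun h => by
          have := (hl.pow_dvd_iff_le_factorization (show r + 1 ≠ 0 by omega)).2 (show 2 ≤ _ from h)
          omega)
        (hl.factorization_pos_of_dvd (by omega) (by omega))
      rw [hl.factorization_self, hex (by omega) hd hnd, h21] at hsum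
      omega
    · rw [Nat.factorization_eq_zero_of_not_dvd (fun h => hl2 ((Nat.prime_dvd_prime_iff_eq hl Nat.prime_two).1 h)),
        zero_add] at hsum
      rcases hcase with ⟨-, hd, hnd⟩ | ⟨-, hd, hnd⟩
      · rw [hsum, hex (by omega) hd hnd, Nat.factorization_eq_zero_of_not_dvd fun h =>
          hside ℓ hl hl2 h ((dvd_pow_self ℓ he.ne').trans hd), zero_add]
      · rw [hsum, hex (by omega) hd hnd, Nat.factorization_eq_zero_of_not_dvd
          (hside ℓ hl hl2 ((dvd_pow_self ℓ he.ne').trans hd)), add_zero]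
  have hdvd : m ∣ n := (Nat.factorization_le_iff_dvd hm0 hn0).1 fun ℓ => by
    by_cases hmem : ℓ ∈ m.primeFactors
    · exact (hexact ℓ hmem).ge
    · rw [← Nat.support_factorization, Finsupp.notMem_support_iff] at hmem
      rw [hmem]; exact Nat.zero_le _
  refine ⟨hdvd, Nat.coprime_of_dvd fun ℓ hl h1 h2 => ?_, ?_⟩
  · have hmem : ℓ ∈ m.primeFactors := Nat.mem_primeFactors.2 ⟨hl, h1, hm0⟩
    have h3 := congrArg (fun f : ℕ →₀ ℕ => f ℓ) (Nat.factorization_div hdvd)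
    simp only [Finsupp.tsub_apply, hexact ℓ hmem, Nat.sub_self] at h3
    exact (hl.factorization_pos_of_dvd (Nat.div_ne_zero_iff_of_dvd hdvd |>.2 ⟨hn0, hm0⟩) h2).ne' h3
  intro H hH
  have hqmem : q ∈ m.primeFactors := Nat.mem_primeFactors.2 ⟨hq, hqd, hm0⟩
  have hpmem : p ∈ m.primeFactors := Nat.mem_primeFactors.2 ⟨hp, hpd, hm0⟩
  have hq1 : q ∣ r + 1 := by
    obtain ⟨he, ⟨-, hd, -⟩ | ⟨hne, -⟩⟩ := hℓ q hqmem
    · exact (dvd_pow_self q he.ne').trans hd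
    · exact absurd rfl hne
  have hgcd : Nat.gcd 2 (r - 1) = 2 := Nat.gcd_eq_left (by omega)
  rcases PSL2.dickson r H with ⟨k, hk, hshape⟩ | ⟨P, hP⟩ | ⟨⟨e⟩⟩ | ⟨⟨e⟩⟩ | ⟨⟨e⟩⟩ | ⟨K, _, _, j, hj, hK⟩
  · rw [hF, hgcd] at hk
    have hkm : k ∣ m ∧ m ∣ 2 * k := by
      rcases hshape with ⟨-, hc⟩ | ⟨⟨e⟩⟩
      · rw [hc] at hH; exact ⟨hH ▸ dvd_rfl, hH ▸ dvd_mul_left _ _⟩
      · have := Nat.card_congr e.toEquiv
        rw [hH, DihedralGroup.nat_card] at this
        exact ⟨this ▸ dvd_mul_left _ _, this ▸ dvd_rfl⟩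
    have hqk : q ∣ k := (hq.dvd_mul.1 (hqd.trans hkm.2)).resolve_left
      fun h => hq2 ((Nat.prime_dvd_prime_iff_eq hq Nat.prime_two).1 h)
    rcases hk with hk | hk
    swap
    · exact hside q hq hq2 (hqk.trans (hk.trans (Nat.div_dvd_of_dvd (by omega)))) hq1
    obtain ⟨he, ⟨hpq', -⟩ | ⟨-, hd, -⟩⟩ := hℓ p hpmem
    · exact hpq hpq'
    by_cases hp2 : p = 2
    · have h4m := hp4 hp2
      have h41 := h4r p hpmem hp2
      have h2k : 2 ∣ k := by
        obtain ⟨u, hu⟩ := h4m.trans hkm.2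
        omega
      obtain ⟨u, hu⟩ := h2k.trans hk
      omega
    · refine hside p hp hp2 ((dvd_pow_self p he.ne').trans hd) ?_
      exact ((hp.dvd_mul.1 (hpd.trans hkm.2)).resolve_left
        fun h => hp2 ((Nat.prime_dvd_prime_iff_eq hp Nat.prime_two).1 h)).trans
        (hk.trans (Nat.div_dvd_of_dvd (by omega)))
  · have h1 := card_dvd_of_le hP
    rw [hH] at h1
    have h2 := PSL2.card_normalizer_sylow r P
    rw [hF, hgcd] at h2
    have h3 : q ∣ (r - 1) * r := h2 ▸ dvd_mul_of_dvd_right (hqd.trans h1) _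
    rcases hq.dvd_mul.1 h3 with h | h
    · exact hside q hq hq2 h hq1
    · exact hnr q hqmem h
  · rw [Nat.card_congr e.toEquiv, nat_card_alternatingGroup, Nat.card_fin] at hH
    exact h12 (hH.symm.trans (by decide))
  · rw [Nat.card_congr e.toEquiv, Nat.card_perm, Nat.card_fin] at hH
    exact h24 (hH.symm.trans (by decide))
  · rw [Nat.card_congr e.toEquiv, nat_card_alternatingGroup, Nat.card_fin] at hH
    exact h60 (hH.symm.trans (by decide))
  · rw [hF] at hj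
    have hj1 : j = 1 := Nat.Prime.eq_one_of_pow (x := Fintype.card K) (n := j) (by rw [hj]; exact hrp)
    rw [hj1, pow_one] at hj
    have hdr : r ∣ m := by
      rw [← hH]
      rcases hK with ⟨⟨e⟩⟩ | ⟨⟨e⟩⟩
      · rw [Nat.card_congr e.toEquiv]
        have h := PSL2.gcd_mul_card_PSL (F := K)
        rw [hj, hgcd] at h
        refine (Nat.Coprime.dvd_of_dvd_mul_left ?_ (h ▸ dvd_mul_right r _))
        exact ((Nat.coprime_primes hrp Nat.prime_two).2 (by omega))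
      · rw [Nat.card_congr e.toEquiv, GL.card_PGL, PSL2.card_SL, hj]
        exact dvd_mul_right _ _
    have := Nat.le_of_dvd (by omega) hdr
    omega

end Cfsg.Agent.HallNumber
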