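import Cfsg.Agent.Lib.EightSeven.Main
import Cfsg.Agent.Lib.Solvable.Hall
import Cfsg.Agent.Lib.A8Sub.Tools
import Cfsg.Agent.Lib.RankTwoClass.Basic
import Cfsg.Agent.Lib.GW.KType
import Cfsg.Agent.S0071

/-!
# Hall numbers: subgroups of order `m ≡ 2 (mod 4)`, twelve and twenty-four
-/

set_option autoImplicit false
set_option linter.style.haveILetI false

namespace Cfsg.Agent.HallNumber

open Subgroup

universe u

variable {G : Type u} [Group G] [Finite G]

theorem exists_of_solvable [Group.IsSolvable G] {m : ℕ} (hd : m ∣ Nat.card G)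
    (hc : m.Coprime (Nat.card G / m)) : ∃ H : Subgroup G, Nat.card H = m :=
  Solvable.exists_hall (Nat.mul_div_cancel' hd).symm hc

theorem isSolvable_of_normalizer_le {p : ℕ} [Fact p.Prime] (hp : p = 2) (S : Sylow p G)
    (h : normalizer ((S : Subgroup G) : Set G) ≤ centralizer ((S : Subgroup G) : Set G)) : Group.IsSolvable G := by
  subst hp
  set f := MonoidHom.transferSylow S h
  haveI : Group.IsSolvable f.ker := S0205.result
    (Nat.not_even_iff_odd.1 fun he => MonoidHom.not_dvd_card_ker_transferSylow S h he.two_dvd)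
  haveI : Group.IsNilpotent (S : Subgroup G) := S.2.isNilpotent
  exact Group.isSolvable_of_ker_le_range f.ker.subtype f (by simp)

theorem isSolvable_of_complement {S : Sylow 2 G} {N : Subgroup G} [N.Normal]
    (h : N.IsComplement' (S : Subgroup G)) : Group.IsSolvable G := by
  haveI : Fact (Nat.Prime 2) := ⟨Nat.prime_two⟩
  haveI : Group.IsSolvable N := S0205.result
    (Nat.not_even_iff_odd.1 fun he => S.not_dvd_index (by rw [h.index_eq_card]; exact he.two_dvd))
  haveI : Group.IsNilpotent (G ⧸ N) := by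
    refine IsPGroup.isNilpotent (p := 2) ?_
    obtain ⟨k, hk⟩ := S.2.exists_card_eq
    exact IsPGroup.of_card (n := k) ((h.symm.index_eq_card).trans hk)
  exact Group.isSolvable_of_ker_le_range N.subtype (QuotientGroup.mk' N) (by simp)

theorem isSolvable_of_two (h2 : Nat.card G % 4 = 2) : Group.IsSolvable G := by
  haveI : Fact (Nat.Prime 2) := ⟨Nat.prime_two⟩
  obtain ⟨S⟩ : Nonempty (Sylow 2 G) := inferInstance
  have hS : Nat.card (S : Subgroup G) = 2 := by
    obtain ⟨k, hk⟩ := S.2.exists_card_eq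
    have hd : 2 ^ k ∣ Nat.card G := hk ▸ card_subgroup_dvd_card _
    have h1 : k ≤ 1 := by
      by_contra hlt
      have := (pow_dvd_pow 2 (show 2 ≤ k by omega)).trans hd
      omega
    have h0 : k ≠ 0 := fun h0 => S.not_dvd_index (by
      have := (S : Subgroup G).card_mul_index
      rw [hk, h0, pow_zero, one_mul] at this
      rw [this]; omega)
    rw [hk, show k = 1 by omega, pow_one]
  obtain ⟨P, N, hN, hc⟩ := GW.hasNormalPComplement_of_cyclic_two S (isCyclic_of_prime_card (p := 2) hS)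
  haveI := hN
  exact isSolvable_of_complement hc

/-- A subgroup of order `|A| · |Q|` from a normalised subgroup of coprime order. -/
theorem exists_card_mul {A Q : Subgroup G} (hQ : Q ≤ normalizer (A : Set G))
    (hc : (Nat.card A).Coprime (Nat.card Q)) : ∃ H : Subgroup G, Nat.card H = Nat.card A * Nat.card Q := by
  set N := normalizer (A : Set G)
  have h := RankTwoClass.card_sup_mul_card_inf (A.subgroupOf N) (Q.subgroupOf N)
  have hA : Nat.card (A.subgroupOf N) = Nat.card A := Nat.card_congr (subgroupOfEquivOfLe le_normalizer).toEquiv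
  have hQ' : Nat.card (Q.subgroupOf N) = Nat.card Q := Nat.card_congr (subgroupOfEquivOfLe hQ).toEquiv
  have hbot : A.subgroupOf N ⊓ Q.subgroupOf N = ⊥ :=
    Subgroup.inf_eq_bot_of_coprime (by rwa [hA, hQ'])
  rw [hbot, card_bot, mul_one, hA, hQ'] at h
  exact ⟨(A.subgroupOf N ⊔ Q.subgroupOf N).map N.subtype, (card_map_of_injective N.subtype_injective).trans h⟩

theorem exists_mul_three {A : Subgroup G} {k : ℕ} (hA : Nat.card A = 2 ^ k)
    (h3 : 3 ∣ Nat.card (normalizer (A : Set G))) : ∃ H : Subgroup G, Nat.card H = 2 ^ k * 3 := by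
  haveI : Fact (Nat.Prime 3) := ⟨Nat.prime_three⟩
  obtain ⟨⟨t, ht⟩, hto⟩ := exists_prime_orderOf_dvd_card' 3 h3
  rw [orderOf_mk] at hto
  have := exists_card_mul (A := A) (Q := zpowers t) (zpowers_le.2 ht)
    (by rw [hA, Nat.card_zpowers, hto]; exact Nat.Coprime.pow_left _ (by norm_num))
  rwa [hA, Nat.card_zpowers, hto] at this

/-- Automorphisms of odd prime order of a group of order at most eight. -/
theorem aut_cases {A : Type u} [Group A] [Finite A] (h8 : Nat.card A = 2 ∨ Nat.card A = 4 ∨ Nat.card A = 8)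
    (a : MulAut A) {q : ℕ} (hq : q.Prime) (hq2 : q ≠ 2) (ha : orderOf a = q) :
    (Nat.card A ≠ 2) ∧ (q = 3 ∨ (q = 7 ∧ Nat.card A = 8 ∧ (∀ x : A, x ^ 2 = 1) ∧ ∀ x : A, a x = x → x = 1)) := by
  classical
  haveI := Fintype.ofFinite A
  set F : Subgroup A := a.toMonoidHom.eqLocus (MonoidHom.id _)
  have hmemF : ∀ x, x ∈ F ↔ a x = x := fun x => Iff.rfl
  have hpow : ∀ (g : MulAut A), g ∈ zpowers a → g ≠ 1 → ∀ x, g x = x → a x = x := by
    intro g hg hg1 x hx
    haveI := Fact.mk hq
    have hz : zpowers g = zpowers a := eq_of_le_of_card_ge (zpowers_le.2 hg) (by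
      rw [Nat.card_zpowers, Nat.card_zpowers]
      refine le_of_eq (ha.trans ?_)
      rcases (Nat.dvd_prime hq).1 (ha ▸ orderOf_dvd_of_mem_zpowers hg) with e | e
      · exact absurd (orderOf_eq_one_iff.1 e) hg1
      · exact e.symm)
    have : a ∈ zpowers g := hz ▸ mem_zpowers a
    exact (zpowers_le.2 (show g ∈ MulAction.stabilizer (MulAut A) x from hx)) this
  have hfree : ∀ U : Finset A, (∀ x ∈ U, a x ≠ x) → (∀ g ∈ zpowers a, ∀ x ∈ U, g x ∈ U) → q ∣ U.card := by
    intro U hU hst
    rw [← ha, ← Nat.card_zpowers]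
    exact EightSeven.card_dvd_of_free (zpowers a) U hst fun g hg x hx e => by
      by_contra hne
      exact hU x hx (hpow g hg hne x e)
  have hfix : ∀ g ∈ zpowers a, ∀ x, a (g x) = g x → a x = x := by
    intro g hg x e
    obtain ⟨i, rfl⟩ := mem_zpowers_iff.1 hg
    refine (a ^ i).injective ?_
    rw [← MulAut.mul_apply, ← zpow_add_one, add_comm, zpow_one_add, MulAut.mul_apply]
    exact e
  have h1 := hfree (Finset.univ.filter fun x => a x ≠ x) (fun x hx => (Finset.mem_filter.1 hx).2)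
    (fun g hg x hx => Finset.mem_filter.2 ⟨Finset.mem_univ _, fun e => (Finset.mem_filter.1 hx).2 (hfix g hg x e)⟩)
  have hsplit := Finset.card_filter_add_card_filter_not (s := (Finset.univ : Finset A)) (fun x => a x ≠ x)
  have hF : (Finset.univ.filter fun x => ¬ a x ≠ x).card = Nat.card F := by
    rw [← Fintype.card_subtype, ← Nat.card_eq_fintype_card]
    exact Nat.card_congr (Equiv.subtypeEquivRight fun x => by rw [not_not]; rfl)
  rw [hF, Finset.card_univ, ← Nat.card_eq_fintype_card] at hsplit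
  have hdvd := F.card_subgroup_dvd_card
  have hFne : Nat.card F ≠ Nat.card A := fun e => by
    have : F = ⊤ := eq_top_of_card_eq F e
    have : a = 1 := MulEquiv.ext fun x => (this ▸ mem_top x : x ∈ F)
    rw [this, orderOf_one] at ha
    exact hq.one_lt.ne ha
  have hq3 : 3 ≤ q := by have := hq.two_le; omega
  obtain ⟨k, hk, hk3⟩ : ∃ k, Nat.card A = 2 ^ k ∧ k ≤ 3 := by
    rcases h8 with e | e | e
    · exact ⟨1, e, by norm_num⟩
    · exact ⟨2, e, by norm_num⟩
    · exact ⟨3, e, le_rfl⟩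
  rw [hk] at hdvd
  obtain ⟨j, hj, hjF⟩ := (Nat.dvd_prime_pow Nat.prime_two).1 hdvd
  rw [hjF, hk] at hsplit hFne
  set c := (Finset.univ.filter fun x => a x ≠ x).card with hc
  have hcases : (q = 3 ∧ k ≠ 1) ∨ (q = 7 ∧ k = 3 ∧ j = 0) := by
    have hjk : j < k := lt_of_le_of_ne hj fun e => hFne (by rw [e])
    have hqc : q ≤ c := Nat.le_of_dvd (by
      rcases Nat.eq_zero_or_pos c with e | e
      · exfalso
        rw [e, zero_add] at hsplit
        exact hFne hsplit
      · exact e) h1
    have hk0 : 0 < k := by omega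
    interval_cases k <;> interval_cases j <;> norm_num at hsplit <;> (try omega) <;>
      (have hq7 : q ≤ 7 := by omega
       have hcv : c ≤ 7 := by omega
       interval_cases q <;> norm_num at * <;> omega)
  rcases hcases with ⟨h3', hk1⟩ | ⟨h7, hk8, hj0⟩
  · refine ⟨fun e => hk1 ?_, Or.inl h3'⟩
    rw [hk] at e
    exact Nat.pow_right_injective le_rfl (e.trans (pow_one 2).symm)
  rw [hk8] at hk
  rw [hj0, pow_zero] at hjF
  have hF1 : ∀ x : A, a x = x → x = 1 := fun x hx => mem_bot.1 (card_eq_one.1 hjF ▸ (hmemF x).2 hx)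
  refine ⟨by rw [hk]; norm_num, Or.inr ⟨h7, by rw [hk]; norm_num, ?_, hF1⟩⟩
  set U := (Finset.univ : Finset A).filter fun x => x ≠ 1 ∧ x ^ 2 = 1 with hU
  have h7U : q ∣ U.card := hfree U (fun x hx e => (Finset.mem_filter.1 hx).2.1 (hF1 x e)) (fun g _ x hx => by
    refine Finset.mem_filter.2 ⟨Finset.mem_univ _, fun e => (Finset.mem_filter.1 hx).2.1
      (g.map_eq_one_iff.1 e), ?_⟩
    rw [← map_pow, (Finset.mem_filter.1 hx).2.2, map_one])
  haveI : Fact (Nat.Prime 2) := ⟨Nat.prime_two⟩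
  obtain ⟨t, ht⟩ := exists_prime_orderOf_dvd_card' (G := A) 2 (by rw [hk]; norm_num)
  have htU : t ∈ U := Finset.mem_filter.2 ⟨Finset.mem_univ _, fun e => by
    rw [e, orderOf_one] at ht; norm_num at ht, ht ▸ pow_orderOf_eq_one t⟩
  have hle : 7 ≤ U.card := h7 ▸ Nat.le_of_dvd (Finset.card_pos.2 ⟨t, htU⟩) h7U
  have hUeq : U = Finset.univ.erase 1 := Finset.eq_of_subset_of_card_le
    (fun x hx => Finset.mem_erase.2 ⟨(Finset.mem_filter.1 hx).2.1, Finset.mem_univ _⟩)
    (by rw [Finset.card_erase_of_mem (Finset.mem_univ _), Finset.card_univ, ← Nat.card_eq_fintype_card, hk]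
        exact le_trans (by norm_num) hle)
  intro x
  by_cases hx : x = 1
  · rw [hx, one_pow]
  · exact (Finset.mem_filter.1 (hUeq.symm ▸ Finset.mem_erase.2 ⟨hx, Finset.mem_univ _⟩ : x ∈ U)).2.2

/-- An odd prime divisor of an automizer gives an automorphism of that order and divides the normalizer. -/
theorem exists_aut (A : Subgroup G) {q : ℕ} [Fact q.Prime]
    (hq : q ∣ (centralizer (A : Set G)).relIndex (normalizer (A : Set G))) :
    (∃ a ∈ (A.normalizerMonoidHom).range, orderOf a = q) ∧ q ∣ Nat.card (normalizer (A : Set G)) := by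
  have hr : Nat.card (A.normalizerMonoidHom).range =
      (centralizer (A : Set G)).relIndex (normalizer (A : Set G)) := by
    rw [← Subgroup.index_ker, normalizerMonoidHom_ker]; rfl
  obtain ⟨⟨a, ha⟩, hao⟩ := exists_prime_orderOf_dvd_card' (G := (A.normalizerMonoidHom).range) q (hr ▸ hq)
  rw [orderOf_mk] at hao
  exact ⟨⟨a, ha, hao⟩, hq.trans (Subgroup.relIndex_dvd_card _ _)⟩

/-- Frobenius: a nonsolvable group has a 2-subgroup with an automorphism of odd prime order induced. -/
theorem exists_moved (hns : ¬ Group.IsSolvable G) (S : Sylow 2 G) : ∃ Q : Subgroup G, Q ≤ (S : Subgroup G) ∧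
    ∃ q, q.Prime ∧ q ≠ 2 ∧ q ∣ (centralizer (Q : Set G)).relIndex (normalizer (Q : Set G)) := by
  haveI : Fact (Nat.Prime 2) := ⟨Nat.prime_two⟩
  by_contra hno
  obtain ⟨N, hN, hc⟩ := (S0071.result S).2 (fun Q hQ g hg hcop => by
    by_contra hgc
    set f := Q.normalizerMonoidHom
    have hne : f ⟨g, hg⟩ ≠ 1 := fun e => hgc (by
      rwa [← MonoidHom.mem_ker, normalizerMonoidHom_ker, mem_subgroupOf] at e)
    obtain ⟨q, hq, hqd⟩ := Nat.exists_prime_and_dvd (fun e => hne (orderOf_eq_one_iff.1 e))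
    have hd1 : orderOf (f ⟨g, hg⟩) ∣ orderOf g := (orderOf_map_dvd f _).trans (by rw [orderOf_mk])
    refine hno ⟨Q, hQ, q, hq, fun e => ?_, ?_⟩
    · subst e
      exact (Nat.prime_two.coprime_iff_not_dvd.1 hcop.symm) (hqd.trans hd1)
    · have hr : Nat.card f.range = (centralizer (Q : Set G)).relIndex (normalizer (Q : Set G)) := by
        rw [← Subgroup.index_ker, normalizerMonoidHom_ker]; rfl
      rw [← hr]
      exact hqd.trans (Subgroup.orderOf_dvd_natCard _ ⟨_, rfl⟩))
  haveI := hN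
  exact hns (isSolvable_of_complement hc)

theorem card_sylow_eq {k : ℕ} (S : Sylow 2 G) (h : 2 ^ k ∣ Nat.card G) (h' : ¬ 2 ^ (k + 1) ∣ Nat.card G) :
    Nat.card (S : Subgroup G) = 2 ^ k := by
  haveI : Fact (Nat.Prime 2) := ⟨Nat.prime_two⟩
  rw [S.card_eq_multiplicity]
  congr 1
  refine le_antisymm ?_ ((Nat.Prime.pow_dvd_iff_le_factorization Nat.prime_two Nat.card_pos.ne').1 h)
  by_contra hlt
  exact h' ((Nat.Prime.pow_dvd_iff_le_factorization Nat.prime_two Nat.card_pos.ne').2 (by omega))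

/-- In a nonsolvable group with four-element Sylow 2-subgroups, 3 divides the automizer. -/
theorem three_dvd_automizer (hns : ¬ Group.IsSolvable G) (S : Sylow 2 G) (hS : Nat.card (S : Subgroup G) = 4) :
    3 ∣ (centralizer ((S : Subgroup G) : Set G)).relIndex (normalizer ((S : Subgroup G) : Set G)) := by
  haveI : Fact (Nat.Prime 2) := ⟨Nat.prime_two⟩
  obtain ⟨Q, hQ, q, hq, hq2, hqd⟩ := exists_moved hns S
  haveI := Fact.mk hq
  obtain ⟨⟨a, -, ha⟩, -⟩ := exists_aut Q hqd
  have hd := hS ▸ card_dvd_of_le hQ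
  obtain ⟨j, hj, e⟩ := (Nat.dvd_prime_pow Nat.prime_two).1 (show Nat.card Q ∣ 2 ^ 2 from hd)
  have hj0 : j ≠ 0 := fun h0 => by
    rw [h0, pow_zero, card_eq_one] at e
    subst e
    have : a = 1 := MulEquiv.ext fun x => Subsingleton.elim _ _
    rw [this, orderOf_one] at ha
    exact hq.one_lt.ne ha
  obtain ⟨h2, h37⟩ := aut_cases (by rw [e]; interval_cases j <;> norm_num at *) a hq hq2 ha
  rcases h37 with rfl | ⟨-, h8, -⟩
  · have : Q = (S : Subgroup G) := eq_of_le_of_card_ge hQ (by
      rw [hS, e]; interval_cases j <;> simp_all)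
    rwa [this] at hqd
  · rw [e] at h8; interval_cases j <;> norm_num at h8

theorem exists_twelve (h : 12 ∣ Nat.card G) (hc : Nat.Coprime 12 (Nat.card G / 12)) :
    ∃ H : Subgroup G, Nat.card H = 12 := by
  haveI : Fact (Nat.Prime 2) := ⟨Nat.prime_two⟩
  by_cases hs : Group.IsSolvable G
  · exact exists_of_solvable h hc
  obtain ⟨S⟩ : Nonempty (Sylow 2 G) := inferInstance
  have hS : Nat.card (S : Subgroup G) = 2 ^ 2 := by
    refine card_sylow_eq S (dvd_trans (by norm_num) h) fun h8 => ?_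
    obtain ⟨c, hc'⟩ := h
    rw [hc', Nat.mul_div_cancel_left _ (by norm_num : 0 < 12)] at hc
    rw [hc'] at h8
    have h2c : 2 ∣ c := by omega
    exact absurd (Nat.dvd_gcd (by norm_num : 2 ∣ 12) h2c) (by rw [hc.gcd_eq_one]; norm_num)
  obtain ⟨H, hH⟩ := exists_mul_three hS ((three_dvd_automizer hs S hS).trans (Subgroup.relIndex_dvd_card _ _))
  exact ⟨H, hH⟩

end Cfsg.Agent.HallNumber
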