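import Cfsg.Agent.Lib.HallNumber.Sixty
import Cfsg.Agent.Lib.HallNumber.Counter

/-!
# Hall numbers: the classification (statement S4044 from Gorenstein–Walter)
-/

set_option autoImplicit false

namespace Cfsg.Agent.HallNumber

theorem hall_numbers (h2 : GW.PartTwo.{0}) (m : ℕ) (hm : 2 ≤ m) :
    (∀ (G : Type) [Group G] [Finite G], m ∣ Nat.card G → m.Coprime (Nat.card G / m) →
        ∃ H : Subgroup G, Nat.card H = m) ↔
    (IsPrimePow m ∨ m % 4 = 2 ∨ m = 12 ∨ m = 24 ∨ m = 60) := by
  constructor
  · intro h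
    by_contra hno
    simp only [not_or] at hno
    obtain ⟨hpp, h4, h12, h24, h60⟩ := hno
    obtain ⟨G, _, _, hd, hc, hH⟩ := exists_counterexample hm hpp h4 h12 h24 h60
    obtain ⟨H, hHc⟩ := h G hd hc
    exact hH H hHc
  · intro h G _ _ hd hc
    rcases h with h | h | rfl | rfl | rfl
    · obtain ⟨p, k, hp, -, rfl⟩ := (isPrimePow_nat_iff m).1 h
      haveI := Fact.mk hp
      exact Sylow.exists_subgroup_card_pow_prime p hd
    · haveI : Group.IsSolvable G := isSolvable_of_two (by
        obtain ⟨c, hcG⟩ := id hd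
        rw [hcG, Nat.mul_div_cancel_left _ (by omega : 0 < m)] at hc
        have hodd : ¬ 2 ∣ c := fun h2c => absurd (Nat.dvd_gcd (show 2 ∣ m by omega) h2c)
          (by rw [hc.gcd_eq_one]; norm_num)
        rw [hcG, Nat.mul_mod, h]
        rcases (show c % 4 = 1 ∨ c % 4 = 3 by omega) with e | e <;> rw [e])
      exact exists_of_solvable hd hc
    · exact exists_twelve hd hc
    · exact exists_twenty_four hd hc
    · exact exists_sixty h2 hd hc

end Cfsg.Agent.HallNumber
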