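import Cfsg.Agent.Lib.HallNumber.TwentyFour
import Cfsg.Agent.Lib.GW.Assembly
import Cfsg.Agent.Lib.PSL2.Platonic

/-!
# Hall numbers: sixty

The simple case is Gorenstein–Walter for four-group Sylow subgroups: `PSL(2, q)` has an icosahedral subgroup
when it has an element of order five.
-/

set_option autoImplicit false
set_option linter.style.haveILetI false

namespace Cfsg.Agent.HallNumber

open Subgroup

universe u

theorem exists_five {G : Type u} [Group G] [Finite G] [IsSimpleGroup G] (h2 : GW.PartTwo.{u})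
    (hns : ¬ Group.IsSolvable G) (hS : ∀ S : Sylow 2 G, Nat.card (S : Subgroup G) = 4) (h5 : 5 ∣ Nat.card G) :
    ∃ H : Subgroup G, Nat.card H = 60 := by
  haveI : Fact (Nat.Prime 5) := ⟨by norm_num⟩
  haveI : Fact (Nat.Prime 2) := ⟨Nat.prime_two⟩
  have hd : GW.DihedralTwo G := by
    intro S
    refine ⟨2, le_rfl, ?_⟩
    haveI : IsKleinFour (S : Subgroup G) := by
      refine ⟨hS S, ?_⟩
      have hnc : ¬ IsCyclic (S : Subgroup G) := fun hc => hns (by
        obtain ⟨P, N, hN, hcN⟩ := GW.hasNormalPComplement_of_cyclic_two S hc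
        haveI := hN
        exact isSolvable_of_complement hcN)
      exact (not_isCyclic_iff_exponent_eq_prime Nat.prime_two (hS S)).1 hnc
    exact IsKleinFour.nonempty_mulEquiv
  rcases GW.isKnown_of_simple h2 G inferInstance hd with ⟨F, _, _, -, -, ⟨e⟩⟩ | ⟨⟨e⟩⟩
  · obtain ⟨x, hx⟩ := exists_prime_orderOf_dvd_card' (G := G) 5 h5
    obtain ⟨τ, hτ⟩ := PSL2.exists_golden (x := e x) (by rw [MulEquiv.orderOf_eq, hx])
    obtain ⟨φ, hφ⟩ := PSL2.exists_altFive_of_golden hτ
    refine ⟨φ.range.map e.symm.toMonoidHom, ?_⟩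
    rw [card_map_of_injective e.symm.injective, Nat.card_congr (MonoidHom.ofInjective hφ).symm.toEquiv,
      nat_card_alternatingGroup, Nat.card_fin]
    rfl
  · exfalso
    obtain ⟨S⟩ : Nonempty (Sylow 2 G) := inferInstance
    have h1 := S.card_eq_multiplicity
    rw [hS S] at h1
    have h8 : 2 ^ 3 ∣ Nat.card G := by
      rw [Nat.card_congr e.toEquiv, nat_card_alternatingGroup, Nat.card_fin]; decide +kernel
    have h3 := (Nat.Prime.pow_dvd_iff_le_factorization Nat.prime_two Nat.card_pos.ne').1 h8
    have : 2 ^ 3 ≤ 4 := h1 ▸ Nat.pow_le_pow_right (by norm_num) h3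
    norm_num at this

theorem exists_sixty (h2 : GW.PartTwo.{u}) {G : Type u} [Group G] [Finite G] (h : 60 ∣ Nat.card G)
    (hc : Nat.Coprime 60 (Nat.card G / 60)) : ∃ H : Subgroup G, Nat.card H = 60 := by
  suffices H : ∀ (n : ℕ) (G : Type u) [Group G] [Finite G], Nat.card G = n → 60 ∣ Nat.card G →
      Nat.Coprime 60 (Nat.card G / 60) → ∃ H : Subgroup G, Nat.card H = 60 from H _ G rfl h hc
  clear h hc
  intro n
  induction n using Nat.strong_induction_on with
  | _ n ih =>
  intro G _ _ hn h hc
  haveI : Fact (Nat.Prime 2) := ⟨Nat.prime_two⟩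
  haveI : Fact (Nat.Prime 3) := ⟨Nat.prime_three⟩
  haveI : Fact (Nat.Prime 5) := ⟨by norm_num⟩
  by_cases hs : Group.IsSolvable G
  · exact exists_of_solvable h hc
  have hc' := hc
  obtain ⟨c, hcG⟩ := id h
  rw [hcG, Nat.mul_div_cancel_left _ (by norm_num : 0 < 60)] at hc'
  have hcop : ∀ p, p.Prime → p ∣ 60 → ¬ p ∣ c := fun p hp hp60 hpc => hp.not_dvd_one
    (hc'.gcd_eq_one ▸ Nat.dvd_gcd hp60 hpc)
  have hc2 := hcop 2 Nat.prime_two (by norm_num)
  have hc3 := hcop 3 Nat.prime_three (by norm_num)
  have hc5 := hcop 5 (by norm_num) (by norm_num)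
  have hS : ∀ S : Sylow 2 G, Nat.card (S : Subgroup G) = 4 := fun S =>
    card_sylow_eq (k := 2) S (dvd_trans (by norm_num) h) (by rw [hcG]; omega)
  by_cases hO : ∃ N : Subgroup G, N.Normal ∧ N ≠ ⊥ ∧ Odd (Nat.card N)
  · obtain ⟨N, hN, hN1, hodd⟩ := hO
    haveI := hN
    haveI := S0205.result hodd
    have hmul := card_eq_card_quotient_mul_card_subgroup N
    have h4 : 4 ∣ Nat.card (G ⧸ N) := (Nat.Coprime.pow_left 2 (Nat.coprime_two_left.2 hodd)).dvd_of_dvd_mul_right
      (hmul ▸ dvd_trans (by norm_num) h)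
    have hsq : Nat.Coprime 4 (Nat.card (G ⧸ N) / 4) := by
      rw [show (4 : ℕ) = 2 ^ 2 by norm_num]
      refine Nat.Coprime.pow_left 2 ((Nat.prime_two.coprime_iff_not_dvd).2 fun h2' => ?_)
      have h8 : 8 ∣ Nat.card (G ⧸ N) := by omega
      have h8G : 8 ∣ Nat.card G := hmul ▸ h8.mul_right _
      rw [hcG] at h8G
      omega
    by_cases h3 : 3 ∣ Nat.card N
    · -- the quotient would be soluble
      exfalso
      refine hs ?_
      haveI : Group.IsSolvable (G ⧸ N) := by
        by_contra hq
        obtain ⟨T⟩ : Nonempty (Sylow 2 (G ⧸ N)) := inferInstance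
        have hT : Nat.card (T : Subgroup (G ⧸ N)) = 4 := card_sylow_eq (k := 2) T (by simpa using h4) (by
          intro h8
          have h8G : 8 ∣ Nat.card G := hmul ▸ (show 8 ∣ Nat.card (G ⧸ N) by simpa using h8).mul_right _
          rw [hcG] at h8G
          omega)
        have h3q : 3 ∣ Nat.card (G ⧸ N) := (three_dvd_automizer hq T hT).trans
          ((Subgroup.relIndex_dvd_card _ _).trans (card_subgroup_dvd_card _))
        have h9 : 3 * 3 ∣ Nat.card G := hmul ▸ Nat.mul_dvd_mul h3q h3
        rw [hcG] at h9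
        omega
      exact Group.isSolvable_of_ker_le_range N.subtype (QuotientGroup.mk' N) (by simp)
    have h3q : 3 ∣ Nat.card (G ⧸ N) := ((Nat.prime_three.coprime_iff_not_dvd).2 h3).dvd_of_dvd_mul_right
      (hmul ▸ dvd_trans (by norm_num) h)
    by_cases h5 : 5 ∣ Nat.card N
    · obtain ⟨X, hX⟩ := exists_twelve (G := G ⧸ N) (by omega) (by
        rw [show (12 : ℕ) = 4 * 3 by norm_num]
        refine Nat.Coprime.mul_left ?_ ((Nat.prime_three.coprime_iff_not_dvd).2 fun h' => ?_)
        · exact Nat.Coprime.coprime_dvd_right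
            (Nat.div_dvd_div_left (show 4 * 3 ∣ Nat.card (G ⧸ N) by omega) (dvd_mul_right 4 3)) hsq
        · have h9 : 9 ∣ Nat.card (G ⧸ N) := by omega
          have h9G : 9 ∣ Nat.card G := hmul ▸ h9.mul_right _
          rw [hcG] at h9G
          omega)
      haveI : Group.IsSolvable X := A8Sub.isSolvable_of_card_le_hundred X (by omega) (by omega)
      have hd60 : 60 ∣ Nat.card N * Nat.card X := by rw [hX]; omega
      refine exists_lift_solvable N X hd60 (coprime_div_of_dvd hd60 ?_ hc)
      rw [hmul, mul_comm (Nat.card (G ⧸ N))]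
      exact Nat.mul_dvd_mul_left _ (card_subgroup_dvd_card X)
    · have h5q : 5 ∣ Nat.card (G ⧸ N) := ((show Nat.Prime 5 by norm_num).coprime_iff_not_dvd.2 h5).dvd_of_dvd_mul_right
        (hmul ▸ dvd_trans (by norm_num) h)
      have h60 : 60 ∣ Nat.card (G ⧸ N) := by omega
      have hlt : Nat.card (G ⧸ N) < n := by
        rw [← hn, hmul]
        exact lt_mul_of_one_lt_right Nat.card_pos ((one_lt_card_iff_ne_bot _).2 hN1)
      obtain ⟨X, hX⟩ := ih _ hlt (G ⧸ N) rfl h60
        (coprime_div_of_dvd h60 (hmul ▸ dvd_mul_right _ _) hc)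
      refine exists_lift N ?_ X hX
      rw [show (60 : ℕ) = 2 ^ 2 * 3 * 5 by norm_num]
      exact ((Nat.Coprime.pow_right 2 (Nat.coprime_two_right.2 hodd)).mul_right
        ((Nat.prime_three.coprime_iff_not_dvd).2 h3).symm).mul_right
        ((show Nat.Prime 5 by norm_num).coprime_iff_not_dvd.2 h5).symm
  push Not at hO
  obtain ⟨S⟩ : Nonempty (Sylow 2 G) := inferInstance
  have hauto := three_dvd_automizer hs S (hS S)
  have h3N : 3 ∣ Nat.card (normalizer ((S : Subgroup G) : Set G)) := hauto.trans (Subgroup.relIndex_dvd_card _ _)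
  by_cases h5N : 5 ∣ Nat.card (normalizer ((S : Subgroup G) : Set G))
  · set M := normalizer ((S : Subgroup G) : Set G)
    haveI : Group.IsSolvable M := by
      set f := (S : Subgroup G).normalizerMonoidHom
      haveI : IsMulCommutative (S : Subgroup G) := IsPGroup.isMulCommutative_of_card_eq_prime_sq (p := 2) (hS S)
      set C := centralizer ((S : Subgroup G) : Set G)
      have hSC : (S : Subgroup G) ≤ C := fun x hx => mem_centralizer_iff.2 fun y hy =>
        congrArg Subtype.val ((inferInstance : IsMulCommutative (S : Subgroup G)).is_comm.comm ⟨y, hy⟩ ⟨x, hx⟩)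
      haveI : Group.IsSolvable C := isSolvable_of_normalizer_le rfl (S.subtype hSC) fun y _ =>
        mem_centralizer_iff.2 fun x hx => Subtype.ext (mem_centralizer_iff.1 y.2 _ hx)
      haveI : Group.IsSolvable f.range := by
        haveI : Fintype (S : Subgroup G) := Fintype.ofFinite _
        classical
        let φ : MulAut (S : Subgroup G) →* Equiv.Perm (S : Subgroup G) :=
          { toFun := fun b => b.toEquiv, map_one' := rfl, map_mul' := fun _ _ => rfl }
        have hd : Nat.card f.range ∣ 24 := by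
          refine (card_subgroup_dvd_card f.range).trans ?_
          refine (card_dvd_of_injective φ fun b c hbc => MulEquiv.ext (Equiv.ext_iff.1 hbc)).trans ?_
          rw [Nat.card_perm, hS S]; rfl
        exact A8Sub.isSolvable_of_card_le_hundred _ (le_trans (Nat.le_of_dvd (by norm_num) hd) (by norm_num))
          fun h60 => by rw [h60] at hd; norm_num at hd
      refine Group.isSolvable_of_ker_le_range (inclusion (Subgroup.centralizer_le_normalizer _ : C ≤ M))
        f.rangeRestrict fun y hy => ?_
      rw [MonoidHom.ker_rangeRestrict, normalizerMonoidHom_ker] at hy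
      exact ⟨⟨y, hy⟩, rfl⟩
    have h4M : 4 ∣ Nat.card M := hS S ▸ card_dvd_of_le (le_normalizer : (S : Subgroup G) ≤ M)
    have h60 : 60 ∣ Nat.card M := by omega
    obtain ⟨H, hH⟩ := exists_of_solvable (G := M) h60 (coprime_div_of_dvd h60 (card_subgroup_dvd_card _) hc)
    exact ⟨H.map M.subtype, by rwa [card_map_of_injective M.subtype_injective]⟩
  by_cases hsimp : IsSimpleGroup G
  · exact exists_five h2 hs hS (dvd_trans (by norm_num) h)
  haveI : Nontrivial G := by
    by_contra h'
    rw [not_nontrivial_iff_subsingleton] at h'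
    exact hs inferInstance
  obtain ⟨N, hN, hN1, hNtop⟩ : ∃ N : Subgroup G, N.Normal ∧ N ≠ ⊥ ∧ N ≠ ⊤ := by
    by_contra hno
    push Not at hno
    exact hsimp ⟨fun N hN => or_iff_not_imp_left.2 (hno N hN)⟩
  haveI := hN
  have hmul := card_eq_card_quotient_mul_card_subgroup N
  obtain ⟨R⟩ : Nonempty (Sylow 2 N) := inferInstance
  set R' := (R : Subgroup N).map N.subtype
  obtain ⟨i, hi⟩ := R.2.exists_card_eq
  have hR' : Nat.card R' = 2 ^ i := (card_map_of_injective N.subtype_injective).trans hi
  have hfr := sylow_frattini_dvd N R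
  have hi2 : i ≤ 2 := by
    by_contra hlt
    have h8 : 8 ∣ Nat.card G := ((pow_dvd_pow 2 (show 3 ≤ i by omega)).trans (dvd_of_eq hR'.symm)).trans
      (card_subgroup_dvd_card R')
    rw [hcG] at h8
    omega
  have hi0 : i ≠ 0 := fun h0 => by
    refine R.not_dvd_index ?_
    have h1 := (R : Subgroup N).card_mul_index
    rw [hi, h0, pow_zero, one_mul] at h1
    rw [h1]
    exact even_iff_two_dvd.1 (Nat.not_odd_iff_even.1 (hO N hN hN1))
  rcases (show i = 1 ∨ i = 2 by omega) with rfl | rfl
  · -- a normal subgroup with Sylow subgroups of order two has an odd normal complement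
    exfalso
    obtain ⟨P, K, hK, hcK⟩ := GW.hasNormalPComplement_of_cyclic_two R
      (isCyclic_of_prime_card (p := 2) (by rw [hi, pow_one]))
    haveI := hK
    haveI := isSolvable_of_complement hcK
    have hN2 : Nat.card N = 2 * Nat.card K := by
      have h1 := hcK.card_mul
      have h3 : Nat.card (P : Subgroup N) = 2 := by
        rw [P.card_eq_multiplicity, ← R.card_eq_multiplicity, hi, pow_one]
      rw [h3] at h1
      omega
    have hKodd : Odd (Nat.card K) := Nat.not_even_iff_odd.1 fun he => P.not_dvd_index (by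
      rw [hcK.index_eq_card]; exact he.two_dvd)
    have hKeq : ∀ x : N, x ∈ K ↔ Odd (orderOf x) := by
      intro x
      refine ⟨fun hx => hKodd.of_dvd_nat (Subgroup.orderOf_dvd_natCard _ hx), fun hx => ?_⟩
      rw [← QuotientGroup.eq_one_iff, ← orderOf_eq_one_iff]
      have h2' : orderOf (QuotientGroup.mk x : N ⧸ K) ∣ 2 := by
        refine (_root_.orderOf_dvd_natCard _).trans (dvd_of_eq ?_)
        have := card_eq_card_quotient_mul_card_subgroup K
        rw [hN2] at this
        exact (Nat.eq_of_mul_eq_mul_right Nat.card_pos this).symm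
      have h3 := Nat.dvd_gcd (orderOf_map_dvd (QuotientGroup.mk' K) x) h2'
      rw [(Nat.coprime_two_right.2 hx).gcd_eq_one] at h3
      exact Nat.eq_one_of_dvd_one h3
    haveI : (K.map N.subtype).Normal := ⟨by
      rintro y ⟨x, hx, rfl⟩ g
      refine ⟨⟨g * x * g⁻¹, hN.conj_mem x x.2 g⟩, (hKeq _).2 ?_, rfl⟩
      rw [← orderOf_coe]
      show Odd (orderOf (MulAut.conj g (x : G)))
      rw [MulEquiv.orderOf_eq, orderOf_coe]
      exact (hKeq x).1 hx⟩
    have hKbot : Nat.card (K.map N.subtype) = 1 := by
      by_contra hne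
      exact hO _ inferInstance (fun e => hne (card_eq_one.2 e))
        (by rwa [card_map_of_injective N.subtype_injective])
    rw [card_map_of_injective N.subtype_injective] at hKbot
    rw [hKbot, mul_one] at hN2
    -- a normal subgroup of order two: the automizer could not be of order three
    obtain ⟨⟨z, hz⟩, hzo⟩ := exists_prime_orderOf_dvd_card' (G := N) 2 (by rw [hN2])
    rw [orderOf_mk] at hzo
    have hzc : ∀ g : G, g * z = z * g := by
      intro g
      have h1 : g * z * g⁻¹ ∈ N := hN.conj_mem z hz g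
      have hz1 : z ≠ 1 := fun e => by rw [e, orderOf_one] at hzo; norm_num at hzo
      by_contra hne
      classical
      haveI := Fintype.ofFinite N
      have hcard : ({(1 : N), ⟨z, hz⟩, ⟨_, h1⟩} : Finset N).card ≤ 2 :=
        (Finset.card_le_univ _).trans_eq (by rw [← Nat.card_eq_fintype_card, hN2])
      rw [Finset.card_insert_of_notMem, Finset.card_insert_of_notMem, Finset.card_singleton] at hcard
      · omega
      · simp only [Finset.mem_singleton, Subtype.mk.injEq]
        exact fun e => hne (mul_inv_eq_iff_eq_mul.1 e.symm)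
      · simp only [Finset.mem_insert, Finset.mem_singleton, Subtype.ext_iff, OneMemClass.coe_one, not_or]
        exact ⟨hz1.symm, fun e => hz1 (conj_eq_one_iff.1 e.symm)⟩
    obtain ⟨⟨a, ham, ha⟩, -⟩ := exists_aut (q := 3) (S : Subgroup G) hauto
    have hzS : z ∈ (S : Subgroup G) := by
      haveI : (zpowers z).Normal := ⟨fun x hx g => by
        obtain ⟨k, rfl⟩ := mem_zpowers_iff.1 hx
        rw [← conj_zpow, show g * z * g⁻¹ = z by rw [hzc, mul_inv_cancel_right]]
        exact zpow_mem (mem_zpowers z) k⟩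
      exact IsPGroup.le_sylow_of_normal (IsPGroup.of_card (p := 2) (n := 1)
        (by rw [Nat.card_zpowers, hzo, pow_one])) S (mem_zpowers z)
    obtain ⟨k, hk⟩ := ham
    have hfix : a ⟨z, hzS⟩ = ⟨z, hzS⟩ := by
      rw [← hk]; exact Subtype.ext (show (k : G) * z * (k : G)⁻¹ = z by rw [hzc, mul_inv_cancel_right])
    classical
    haveI := Fintype.ofFinite (S : Subgroup G)
    let F : Subgroup (S : Subgroup G) := a.toMonoidHom.eqLocus (MonoidHom.id _)
    have hFne : F ≠ ⊤ := fun e => by
      have : a = 1 := MulEquiv.ext fun x => (e ▸ mem_top x : x ∈ F)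
      rw [this, orderOf_one] at ha
      norm_num at ha
    have hFz : 2 ≤ Nat.card F := by
      refine (one_lt_card_iff_ne_bot F).2 fun e => ?_
      have : (⟨z, hzS⟩ : (S : Subgroup G)) = 1 := mem_bot.1 (e ▸ hfix)
      rw [show z = 1 from congrArg Subtype.val this, orderOf_one] at hzo
      norm_num at hzo
    have hP : IsPGroup 3 (zpowers a) := IsPGroup.of_card (n := 1) (by rw [Nat.card_zpowers, ha, pow_one])
    have hmod := hP.card_modEq_card_fixedPoints (S : Subgroup G)
    have hfixcard : Nat.card (MulAction.fixedPoints (zpowers a) (S : Subgroup G)) = Nat.card F := by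
      refine Nat.card_congr (Equiv.setCongr (Set.ext fun y => ⟨fun hy => hy ⟨a, mem_zpowers a⟩, fun hy b => ?_⟩))
      exact (zpowers_le.2 (show a ∈ MulAction.stabilizer (MulAut (S : Subgroup G)) y from hy)) b.2
    rw [hfixcard, hS S] at hmod
    have hdvd := F.card_subgroup_dvd_card
    rw [hS S] at hdvd
    have hle : Nat.card F ≤ 4 := Nat.le_of_dvd (by norm_num) hdvd
    have hne4 : Nat.card F ≠ 4 := fun e => hFne (eq_top_of_card_eq F (by rw [e, hS S]))
    interval_cases hF : Nat.card F <;> simp_all [Nat.ModEq]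
  · -- the normal subgroup contains a Sylow subgroup
    have h4N : 4 ∣ Nat.card N := ⟨(R : Subgroup N).index, by rw [← (R : Subgroup N).card_mul_index, hi]; norm_num⟩
    have hNs : ¬ Group.IsSolvable N := by
      intro hNs
      haveI := hNs
      refine hs ?_
      haveI : Group.IsSolvable (G ⧸ N) := S0205.result (Nat.not_even_iff_odd.1 fun he => by
        have h8 : 4 * 2 ∣ Nat.card G := by
          rw [hmul, mul_comm (Nat.card (G ⧸ N))]; exact Nat.mul_dvd_mul h4N he.two_dvd
        rw [hcG] at h8
        omega)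
      exact Group.isSolvable_of_ker_le_range N.subtype (QuotientGroup.mk' N) (by simp)
    have h3' : 3 ∣ Nat.card N := (three_dvd_automizer hNs R (by rw [hi]; norm_num)).trans
      ((Subgroup.relIndex_dvd_card _ _).trans (card_subgroup_dvd_card _))
    have h5' : 5 ∣ Nat.card N := by
      by_contra h5'
      refine h5N ?_
      have h5q : 5 ∣ Nat.card (G ⧸ N) := ((show Nat.Prime 5 by norm_num).coprime_iff_not_dvd.2 h5').dvd_of_dvd_mul_right
        (hmul ▸ dvd_trans (by norm_num) h)
      have h1 := h5q.trans hfr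
      set T := Sylow.ofCard R' (by rw [hR', ← S.card_eq_multiplicity, hS S]; norm_num)
      obtain ⟨g, hg⟩ := MulAction.exists_smul_eq G T S
      have e2 : Nat.card (normalizer ((S : Subgroup G) : Set G)) = Nat.card (normalizer (R' : Set G)) := by
        have e3 := T.card_eq_index_normalizer
        have e4 := S.card_eq_index_normalizer
        have h6 := (normalizer (R' : Set G)).card_mul_index
        have h7 := (normalizer ((S : Subgroup G) : Set G)).card_mul_index
        have e5 : (normalizer (R' : Set G)).index = (normalizer ((S : Subgroup G) : Set G)).index := e3.symm.trans e4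
        rw [e5, ← h7] at h6
        exact (Nat.eq_of_mul_eq_mul_right (Nat.pos_of_ne_zero index_ne_zero_of_finite) h6).symm
      exact e2 ▸ h1
    have h60 : 60 ∣ Nat.card N := by omega
    have hlt : Nat.card N < n := hn ▸ lt_of_le_of_ne
      (Nat.le_of_dvd Nat.card_pos (card_subgroup_dvd_card N)) fun e => hNtop (eq_top_of_card_eq N e)
    obtain ⟨H, hH⟩ := ih _ hlt N rfl h60 (coprime_div_of_dvd h60 (card_subgroup_dvd_card N) hc)
    exact ⟨H.map N.subtype, by rwa [card_map_of_injective N.subtype_injective]⟩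

end Cfsg.Agent.HallNumber
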