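import Cfsg.Agent.Lib.HallNumber.Existence

/-!
# Hall numbers: twenty-four
-/

set_option autoImplicit false
set_option linter.style.haveILetI false

namespace Cfsg.Agent.HallNumber

open Subgroup

universe u

/-- Lifting a subgroup of coprime order from a quotient. -/
theorem exists_lift {G : Type u} [Group G] [Finite G] (N : Subgroup G) [N.Normal] {m : ℕ}
    (hc : (Nat.card N).Coprime m) (X : Subgroup (G ⧸ N)) (hX : Nat.card X = m) :
    ∃ H : Subgroup G, Nat.card H = m := by
  set Y := X.comap (QuotientGroup.mk' N)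
  have hNY : N ≤ Y := QuotientGroup.le_comap_mk' N X
  have hcY : Nat.card Y = Nat.card N * m := by
    rw [← hX]; exact Solvable.card_comap_quotient N X
  set N' := N.subgroupOf Y
  have hN' : Nat.card N' = Nat.card N := Nat.card_congr (subgroupOfEquivOfLe hNY).toEquiv
  have hidx : N'.index = m := by
    have := N'.card_mul_index
    rw [hN', hcY] at this
    exact Nat.eq_of_mul_eq_mul_left Nat.card_pos this
  obtain ⟨K, hK⟩ := exists_right_complement'_of_coprime (N := N') (by rw [hN', hidx]; exact hc)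
  refine ⟨K.map Y.subtype, ?_⟩
  rw [card_map_of_injective Y.subtype_injective, ← hK.symm.index_eq_card, hidx]

/-- Lifting a soluble subgroup from a quotient by a soluble normal subgroup. -/
theorem exists_lift_solvable {G : Type u} [Group G] [Finite G] (N : Subgroup G) [N.Normal] [Group.IsSolvable N]
    {m : ℕ} (X : Subgroup (G ⧸ N)) [Group.IsSolvable X] (hd : m ∣ Nat.card N * Nat.card X)
    (hc : m.Coprime (Nat.card N * Nat.card X / m)) : ∃ H : Subgroup G, Nat.card H = m := by
  set Y := X.comap (QuotientGroup.mk' N)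
  have hNY : N ≤ Y := QuotientGroup.le_comap_mk' N X
  have hcY : Nat.card Y = Nat.card N * Nat.card X := Solvable.card_comap_quotient N X
  haveI : Group.IsSolvable Y := by
    let f : Y →* X := ((QuotientGroup.mk' N).comp Y.subtype).codRestrict X (fun y => y.2)
    refine Group.isSolvable_of_ker_le_range (inclusion hNY) f fun y hy => ?_
    have h1 : (y : G) ∈ N := (QuotientGroup.eq_one_iff (y : G)).1 (congrArg Subtype.val hy)
    exact ⟨⟨y, h1⟩, rfl⟩
  obtain ⟨H, hH⟩ := exists_of_solvable (G := Y) (hcY.symm ▸ hd) (hcY.symm ▸ hc)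
  exact ⟨H.map Y.subtype, by rwa [card_map_of_injective Y.subtype_injective]⟩

theorem coprime_div_of_dvd {m a b : ℕ} (hma : m ∣ a) (hab : a ∣ b) (hc : m.Coprime (b / m)) :
    m.Coprime (a / m) := Nat.Coprime.coprime_dvd_right (Nat.div_dvd_div hma hab) hc

theorem div_coprime_of_factor {m n q k : ℕ} (hm : 0 < m) (hn : n = q * k) (hd : m ∣ n) (hmq : m ∣ k)
    (hc : m.Coprime (n / m)) : m.Coprime q := by
  obtain ⟨c, rfl⟩ := hmq
  refine Nat.Coprime.coprime_dvd_right ?_ hc
  rw [hn, show q * (m * c) = m * (q * c) by ring, Nat.mul_div_cancel_left _ hm]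
  exact dvd_mul_right _ _

theorem sylow_frattini_dvd {G : Type u} [Group G] [Finite G] (N : Subgroup G) [N.Normal] {p : ℕ} [Fact p.Prime]
    (P : Sylow p N) : Nat.card (G ⧸ N) ∣ Nat.card (normalizer ((P : Subgroup N).map N.subtype : Set G)) := by
  have h := Sylow.normalizer_sup_eq_top P
  set M := normalizer ((P : Subgroup N).map N.subtype : Set G)
  have h1 := RankTwoClass.card_sup_mul_card_inf N M
  rw [sup_comm, h, card_top, card_eq_card_quotient_mul_card_subgroup N, mul_comm (Nat.card (G ⧸ N)), mul_assoc]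
    at h1
  exact ⟨_, (Nat.eq_of_mul_eq_mul_left Nat.card_pos h1).symm⟩

/-- The case of an elementary abelian Sylow 2-subgroup with automizer prime to three. -/
theorem exists_of_eight_seven {G : Type u} [Group G] [Finite G] (hns : ¬ Group.IsSolvable G) (S : Sylow 2 G)
    (hS : Nat.card (S : Subgroup G) = 2 ^ 3) (hexp : ∀ x : (S : Subgroup G), x ^ 2 = 1)
    (hnine : ¬ 9 ∣ Nat.card G) (hO : ∀ N : Subgroup G, N.Normal → N ≠ ⊥ → ¬ Odd (Nat.card N))
    (hS3 : ¬ 3 ∣ Nat.card (normalizer ((S : Subgroup G) : Set G)))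
    (ih : ∀ N : Subgroup G, N.Normal → Nat.card N < Nat.card G → 24 ∣ Nat.card N →
      Nat.Coprime 24 (Nat.card N / 24) → ∃ H : Subgroup N, Nat.card H = 24)
    (h24G : 24 ∣ Nat.card G) (hcG : Nat.Coprime 24 (Nat.card G / 24)) : ∃ H : Subgroup G, Nat.card H = 24 := by
  classical
  haveI : Fact (Nat.Prime 2) := ⟨Nat.prime_two⟩
  haveI : Fact (Nat.Prime 3) := ⟨Nat.prime_three⟩
  have hcomm : IsMulCommutative (S : Subgroup G) := ⟨⟨fun a b => by
    have hinv : ∀ x : (S : Subgroup G), x⁻¹ = x := fun x => inv_eq_of_mul_eq_one_right (pow_two x ▸ hexp x)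
    calc a * b = (a * b)⁻¹ := (hinv _).symm
      _ = b * a := by rw [mul_inv_rev, hinv, hinv]⟩⟩
  set f := (S : Subgroup G).normalizerMonoidHom
  set r := (centralizer ((S : Subgroup G) : Set G)).relIndex (normalizer ((S : Subgroup G) : Set G))
  have hr : Nat.card f.range = r := EightSylow.card_range_nhom S
  have hodd : Odd r := hr ▸ EightSylow.odd_card_range S hcomm
  have hr1 : r ≠ 1 := fun e => hns (isSolvable_of_normalizer_le rfl S (relIndex_eq_one.1 e))
  have hprimes : ∀ q, q.Prime → q ∣ r → q = 7 ∧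
      ∃ a ∈ f.range, orderOf a = q ∧ ∀ x, a x = x → x = 1 := by
    intro q hq hqd
    haveI := Fact.mk hq
    obtain ⟨⟨a, ham, ha⟩, hqN⟩ := exists_aut (S : Subgroup G) hqd
    obtain ⟨-, rfl | ⟨h7, -, -, hfree⟩⟩ := aut_cases (Or.inr (Or.inr hS)) a hq
      (fun e => Nat.not_even_iff_odd.2 hodd (even_iff_two_dvd.2 (e ▸ hqd))) ha
    · exact absurd hqN hS3
    · exact ⟨h7, a, ham, ha, hfree⟩
  have hfree : ∀ b ∈ f.range, ∀ x, x ≠ 1 → b x = x → b = 1 := by
    intro b hb x hx hbx
    by_contra hne
    obtain ⟨q, hq, hqd⟩ := Nat.exists_prime_and_dvd (fun e => hne (orderOf_eq_one_iff.1 e))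
    obtain ⟨h7, -⟩ := hprimes q hq (hr ▸ hqd.trans (orderOf_dvd_natCard _ hb))
    obtain ⟨k, hk⟩ := hqd
    have ho : orderOf (b ^ k) = q := by
      have hk0 : k ≠ 0 := fun e => (orderOf_pos b).ne' (by rw [hk, e, mul_zero])
      rw [orderOf_pow_of_dvd hk0 (hk ▸ dvd_mul_left _ _), hk, Nat.mul_div_cancel _ (Nat.pos_of_ne_zero hk0)]
    obtain ⟨-, h37⟩ := aut_cases (Or.inr (Or.inr hS)) (b ^ k) hq (by omega) ho
    rcases h37 with h3 | ⟨-, -, -, hF⟩
    · omega
    · refine hx (hF x ?_)
      exact MulAction.mem_stabilizer_iff.1 (pow_mem (show b ∈ MulAction.stabilizer _ x from hbx) k)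
  haveI : Nontrivial (S : Subgroup G) := Finite.one_lt_card_iff_nontrivial.1 (by rw [hS]; norm_num)
  obtain ⟨t, ht⟩ := exists_ne (1 : (S : Subgroup G))
  have hle : r ≤ 8 := by
    have : Nat.card f.range ≤ Nat.card (S : Subgroup G) := Nat.card_le_card_of_injective
      (fun b : f.range => (b : MulAut (S : Subgroup G)) t) fun b c e => by
        refine Subtype.ext ?_
        have := hfree _ (mul_mem (inv_mem c.2) b.2) t ht (by
          rw [MulAut.mul_apply]
          exact ((c : MulAut (S : Subgroup G)).symm_apply_eq).2 e)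
        exact (inv_mul_eq_one.1 this).symm
    rw [hr, hS] at this
    exact this
  obtain ⟨q, hq, hqd⟩ := Nat.exists_prime_and_dvd hr1
  obtain ⟨rfl, a, -, ha, -⟩ := hprimes q hq hqd
  have hr7 : r = 7 := by
    have hr0 : r ≠ 0 := hr ▸ Nat.card_pos.ne'
    obtain ⟨k, hk⟩ := hqd
    rcases k with _ | _ | k <;> omega
  have helem : Cfsg.IsElementaryAbelian 2 (S : Subgroup G) :=
    ⟨hcomm, fun x hx => congrArg Subtype.val (hexp ⟨x, hx⟩)⟩
  by_cases hsimp : IsSimpleGroup G
  · exact (EightSeven.false_of_not_nine (S := S)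
      ⟨hsimp, fun hc => hns (Group.isSolvable_of_comm hc.is_comm.comm), helem,
        hS.trans (by norm_num), hr7⟩ hnine).elim
  haveI : Nontrivial G := by
    by_contra h
    rw [not_nontrivial_iff_subsingleton] at h
    exact hns inferInstance
  obtain ⟨N, hN, hN1, hNtop⟩ : ∃ N : Subgroup G, N.Normal ∧ N ≠ ⊥ ∧ N ≠ ⊤ := by
    by_contra hno
    push Not at hno
    exact hsimp ⟨fun N hN => or_iff_not_imp_left.2 (hno N hN)⟩
  haveI := hN
  obtain ⟨⟨u, huN⟩, hu⟩ := exists_prime_orderOf_dvd_card' (G := N) 2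
    (even_iff_two_dvd.1 (Nat.not_odd_iff_even.1 (hO N hN hN1)))
  rw [orderOf_mk] at hu
  obtain ⟨P, hP⟩ := (IsPGroup.of_card (p := 2) (n := 1) (G := zpowers u)
    (by rw [Nat.card_zpowers, hu, pow_one])).exists_le_sylow
  obtain ⟨g, hg⟩ := MulAction.exists_smul_eq G P S
  have hsS : g * u * g⁻¹ ∈ (S : Subgroup G) := by
    rw [← hg, Sylow.coe_subgroup_smul, mem_pointwise_smul_iff_inv_smul_mem]
    simpa [MulAut.smul_def, mul_assoc] using hP (mem_zpowers u)
  have hs1 : g * u * g⁻¹ ≠ 1 := fun e => by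
    rw [conj_eq_one_iff] at e; rw [e, orderOf_one] at hu; norm_num at hu
  have hSN : (S : Subgroup G) ≤ N := by
    intro v hv
    by_cases hv1 : v = 1
    · exact hv1 ▸ one_mem _
    obtain ⟨b, hbm, hb, -⟩ := (hprimes 7 hq hqd).2
    obtain ⟨k, hk⟩ := EightSylow.orbit_seven S helem (hS.trans (by norm_num)) b hb
      (s := ⟨_, hsS⟩) (u := ⟨v, hv⟩) (fun e => hs1 (congrArg Subtype.val e))
      (fun e => hv1 (congrArg Subtype.val e))
    obtain ⟨n, hn⟩ := pow_mem hbm k
    rw [← hn] at hk
    have h1 : (n : G) * (g * u * g⁻¹) * (n : G)⁻¹ = v := congrArg Subtype.val hk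
    exact h1 ▸ hN.conj_mem _ (hN.conj_mem u huN g) n
  have hlt : Nat.card N < Nat.card G := lt_of_le_of_ne
    (Nat.le_of_dvd Nat.card_pos (card_subgroup_dvd_card N)) fun e => hNtop (eq_top_of_card_eq N e)
  have h3N : 3 ∣ Nat.card N := by
    by_contra h3
    refine hS3 ?_
    have h1 := sylow_frattini_dvd N (S.subtype hSN)
    have e1 : ((S.subtype hSN : Subgroup N)).map N.subtype = (S : Subgroup G) :=
      map_subgroupOf_eq_of_le hSN
    rw [e1] at h1
    refine dvd_trans ?_ h1
    refine ((Nat.prime_three.coprime_iff_not_dvd).2 h3).dvd_of_dvd_mul_right ?_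
    rw [← card_eq_card_quotient_mul_card_subgroup]
    exact dvd_trans (by norm_num) h24G
  have h8N : 8 ∣ Nat.card N := hS.trans (show (2 : ℕ) ^ 3 = 8 by norm_num) ▸ card_dvd_of_le hSN
  have h24N : 24 ∣ Nat.card N := by omega
  obtain ⟨H, hH⟩ := ih N hN hlt h24N (coprime_div_of_dvd h24N (card_subgroup_dvd_card N) hcG)
  exact ⟨H.map N.subtype, by rwa [card_map_of_injective N.subtype_injective]⟩

theorem exists_twenty_four {G : Type u} [Group G] [Finite G] (h : 24 ∣ Nat.card G)
    (hc : Nat.Coprime 24 (Nat.card G / 24)) : ∃ H : Subgroup G, Nat.card H = 24 := by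
  suffices H : ∀ (n : ℕ) (G : Type u) [Group G] [Finite G], Nat.card G = n → 24 ∣ Nat.card G →
      Nat.Coprime 24 (Nat.card G / 24) → ∃ H : Subgroup G, Nat.card H = 24 from H _ G rfl h hc
  clear h hc
  intro n
  induction n using Nat.strong_induction_on with
  | _ n ih =>
  intro G _ _ hn h hc
  haveI : Fact (Nat.Prime 2) := ⟨Nat.prime_two⟩
  haveI : Fact (Nat.Prime 3) := ⟨Nat.prime_three⟩
  by_cases hs : Group.IsSolvable G
  · exact exists_of_solvable h hc
  obtain ⟨c, hcG⟩ := id h
  rw [hcG, Nat.mul_div_cancel_left _ (by norm_num : 0 < 24)] at hc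
  have hc2 : ¬ 2 ∣ c := fun h2 => absurd (Nat.dvd_gcd (by norm_num : 2 ∣ 24) h2) (by rw [hc.gcd_eq_one]; norm_num)
  have hc3 : ¬ 3 ∣ c := fun h2 => absurd (Nat.dvd_gcd (by norm_num : 3 ∣ 24) h2) (by rw [hc.gcd_eq_one]; norm_num)
  have hnine : ¬ 9 ∣ Nat.card G := by rw [hcG]; omega
  obtain ⟨S⟩ : Nonempty (Sylow 2 G) := inferInstance
  have hS : Nat.card (S : Subgroup G) = 2 ^ 3 := card_sylow_eq S (dvd_trans (by norm_num) h)
    (by rw [hcG]; omega)
  have done : ∀ R : Subgroup G, Nat.card R = 2 ^ 3 → 3 ∣ Nat.card (normalizer (R : Set G)) →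
      ∃ H : Subgroup G, Nat.card H = 24 := fun R hR h3 => exists_mul_three hR h3
  -- odd normal subgroups
  by_cases hO : ∃ N : Subgroup G, N.Normal ∧ N ≠ ⊥ ∧ Odd (Nat.card N)
  · obtain ⟨N, hN, hN1, hodd⟩ := hO
    haveI := hN
    haveI := S0205.result hodd
    have hmul := card_eq_card_quotient_mul_card_subgroup N
    have h8 : 8 ∣ Nat.card (G ⧸ N) := (Nat.Coprime.pow_left 3 (Nat.coprime_two_left.2 hodd)).dvd_of_dvd_mul_right
      (hmul ▸ dvd_trans (by norm_num) h)
    by_cases h3 : 3 ∣ Nat.card N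
    · obtain ⟨P⟩ : Nonempty (Sylow 3 N) := inferInstance
      set P' := (P : Subgroup N).map N.subtype
      have hP : Nat.card P' = 3 := by
        rw [card_map_of_injective N.subtype_injective, P.card_eq_multiplicity]
        have h1 := (Nat.Prime.dvd_iff_one_le_factorization Nat.prime_three Nat.card_pos.ne').1 h3
        have h2 : ¬ 2 ≤ (Nat.card N).factorization 3 := fun hle => hnine
          (((Nat.Prime.pow_dvd_iff_le_factorization Nat.prime_three Nat.card_pos.ne').2 hle).trans
            (card_subgroup_dvd_card N))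
        rw [show (Nat.card N).factorization 3 = 1 by omega, pow_one]
      obtain ⟨T, hT⟩ := Sylow.exists_subgroup_card_pow_prime 2 (G := normalizer (P' : Set G)) (n := 3)
        (h8.trans (sylow_frattini_dvd N P))
      obtain ⟨H, hH⟩ := exists_card_mul (A := P') (Q := T.map (normalizer (P' : Set G)).subtype)
        (map_subtype_le _) (by
          rw [hP, card_map_of_injective (normalizer (P' : Set G)).subtype_injective, hT]; norm_num)
      exact ⟨H, by rw [hH, hP, card_map_of_injective (normalizer (P' : Set G)).subtype_injective, hT]; norm_num⟩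
    · have h24 : 24 ∣ Nat.card (G ⧸ N) := by
        have h3q : 3 ∣ Nat.card (G ⧸ N) := ((Nat.prime_three.coprime_iff_not_dvd).2 h3).dvd_of_dvd_mul_right
          (hmul ▸ dvd_trans (by norm_num) h)
        omega
      have hlt : Nat.card (G ⧸ N) < n := by
        rw [← hn, hmul]
        exact lt_mul_of_one_lt_right Nat.card_pos ((one_lt_card_iff_ne_bot _).2 hN1)
      obtain ⟨X, hX⟩ := ih _ hlt (G ⧸ N) rfl h24
        (coprime_div_of_dvd h24 (hmul ▸ dvd_mul_right _ _)
          (by rw [hcG, Nat.mul_div_cancel_left _ (by norm_num : 0 < 24)]; exact hc))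
      refine exists_lift N ?_ X hX
      exact (Nat.Coprime.pow_right 3 (Nat.coprime_two_right.2 hodd)).mul_right
        ((Nat.prime_three.coprime_iff_not_dvd).2 h3).symm
  push Not at hO
  by_cases hS3 : 3 ∣ Nat.card (normalizer ((S : Subgroup G) : Set G))
  · exact done _ hS hS3
  by_cases hE : ∀ x : (S : Subgroup G), x ^ 2 = 1
  · exact exists_of_eight_seven hs S hS hE hnine hO hS3
      (fun N _ hlt h24 hc24 => ih _ (hn ▸ hlt) N rfl h24 hc24) h
      (by rw [hcG, Nat.mul_div_cancel_left _ (by norm_num : 0 < 24)]; exact hc)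
  obtain ⟨Q, hQS, q, hq, hq2, hqd⟩ := exists_moved hs S
  haveI := Fact.mk hq
  obtain ⟨⟨a, -, ha⟩, hqN⟩ := exists_aut Q hqd
  obtain ⟨j, hj, e⟩ := (Nat.dvd_prime_pow Nat.prime_two).1 (show Nat.card Q ∣ 2 ^ 3 from hS ▸ card_dvd_of_le hQS)
  have hj0 : j ≠ 0 := fun h0 => by
    rw [h0, pow_zero, card_eq_one] at e
    subst e
    have : a = 1 := MulEquiv.ext fun x => Subsingleton.elim _ _
    rw [this, orderOf_one] at ha
    exact hq.one_lt.ne ha
  obtain ⟨hne2, h37⟩ := aut_cases (by rw [e]; interval_cases j <;> norm_num at *) a hq hq2 ha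
  rcases h37 with rfl | ⟨rfl, h8, hexp, hfixfree⟩
  · rcases Nat.lt_or_ge j 3 with hj3 | hj3
    swap
    · exact done Q (by rw [e, show j = 3 by omega]) hqN
    have hj2 : j = 2 := by
      rcases (show j = 1 ∨ j = 2 by omega) with rfl | rfl
      · exact absurd (e.trans (pow_one 2)) hne2
      · rfl
    rw [hj2] at e
    -- `Q` is a four-group; an abelian `S` would be centralised by its normalizer
    haveI hQc : IsMulCommutative Q := IsPGroup.isMulCommutative_of_card_eq_prime_sq e
    have hSnc : ¬ IsMulCommutative (S : Subgroup G) := by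
      intro hSc
      refine hs (isSolvable_of_normalizer_le rfl S (relIndex_eq_one.1 ?_))
      by_contra hne
      obtain ⟨r, hr, hrd⟩ := Nat.exists_prime_and_dvd hne
      haveI := Fact.mk hr
      obtain ⟨⟨b, -, hb⟩, hrN⟩ := exists_aut (S : Subgroup G) hrd
      have hr2 : r ≠ 2 := by
        rintro rfl
        have hsub : (S : Subgroup G) ≤ centralizer ((S : Subgroup G) : Set G) := fun x hx =>
          mem_centralizer_iff.2 fun y hy => congrArg Subtype.val (hSc.is_comm.comm ⟨y, hy⟩ ⟨x, hx⟩)
        exact S.not_dvd_index (hrd.trans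
          ((relIndex_dvd_of_le_left _ hsub).trans (relIndex_dvd_index_of_le le_normalizer)))
      obtain ⟨-, h37'⟩ := aut_cases (Or.inr (Or.inr hS)) b hr hr2 hb
      rcases h37' with rfl | ⟨rfl, -, hex, -⟩
      · exact hS3 hrN
      · exact hE hex
    obtain ⟨T, hT⟩ : ∃ T : Sylow 2 (centralizer (Q : Set G)), True := ⟨Classical.arbitrary _, trivial⟩
    set C := centralizer (Q : Set G)
    have hQC : Q ≤ C := fun x hx => mem_centralizer_iff.2 fun y hy =>
      congrArg Subtype.val (hQc.is_comm.comm ⟨y, hy⟩ ⟨x, hx⟩)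
    have hQcent : ∀ x ∈ Q.subgroupOf C, ∀ y : C, x * y = y * x := fun x hx y =>
      Subtype.ext (mem_centralizer_iff.1 y.2 _ hx)
    have hcentral : (Q.subgroupOf C).Normal := ⟨fun x hx y => by
      rw [show y * x * y⁻¹ = x by rw [← hQcent x hx y, mul_inv_cancel_right]]; exact hx⟩
    have hQT : Q.subgroupOf C ≤ (T : Subgroup C) := by
      refine IsPGroup.le_sylow_of_normal ?_ T
      exact IsPGroup.of_card (n := 2) ((Nat.card_congr (subgroupOfEquivOfLe hQC).toEquiv).trans e)
    have hTeq : (T : Subgroup C) = Q.subgroupOf C := by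
      refine (eq_of_le_of_card_ge hQT ?_).symm
      rw [Nat.card_congr (subgroupOfEquivOfLe hQC).toEquiv, e]
      obtain ⟨i, hi⟩ := T.2.exists_card_eq
      rw [hi]
      refine Nat.pow_le_pow_right (by norm_num) (not_lt.1 fun hlt => hSnc ?_)
      have hd : 2 ^ i ∣ Nat.card G := hi ▸ (card_subgroup_dvd_card _).trans (card_subgroup_dvd_card C)
      have hi3 : i = 3 := by
        have : ¬ 4 ≤ i := fun h4 => by
          have := (pow_dvd_pow 2 h4).trans hd
          rw [hcG] at this
          omega
        omega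
      rw [hi3] at hi
      have hT' : Nat.card ((T : Subgroup C).map C.subtype) = Nat.card (S : Subgroup G) := by
        rw [card_map_of_injective C.subtype_injective, hi, hS]
      set R := Sylow.ofCard ((T : Subgroup C).map C.subtype) (by rw [hT', S.card_eq_multiplicity])
      haveI : IsMulCommutative (T : Subgroup C) := by
        have hle : (Q.subgroupOf C).subgroupOf (T : Subgroup C) ≤ center (T : Subgroup C) := fun x hx =>
          mem_center_iff.2 fun y => Subtype.ext (hQcent _ hx y).symm
        have hcq : IsCyclic ((T : Subgroup C) ⧸ center (T : Subgroup C)) := by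
          have h4 : 4 ∣ Nat.card (center (T : Subgroup C)) := by
            refine dvd_trans (dvd_of_eq ?_) (card_dvd_of_le hle)
            rw [Nat.card_congr (subgroupOfEquivOfLe hQT).toEquiv,
              Nat.card_congr (subgroupOfEquivOfLe hQC).toEquiv, e]
            norm_num
          have h1 := card_eq_card_quotient_mul_card_subgroup (center (T : Subgroup C))
          rw [hi] at h1
          obtain ⟨d, hd⟩ := h4
          rw [hd] at h1
          have h2 : Nat.card ((T : Subgroup C) ⧸ center (T : Subgroup C)) ∣ 2 := ⟨d, by linarith⟩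
          rcases (Nat.dvd_prime Nat.prime_two).1 h2 with e1 | e1
          · haveI := (Nat.card_eq_one_iff_unique.1 e1).1
            exact isCyclic_of_subsingleton
          · exact isCyclic_of_prime_card (p := 2) e1
        exact ⟨⟨commutative_of_cyclic_center_quotient (QuotientGroup.mk' (center (T : Subgroup C)))
          (by rw [QuotientGroup.ker_mk'])⟩⟩
      obtain ⟨y, hy⟩ := MulAction.exists_smul_eq G R S
      refine ⟨⟨fun s t => ?_⟩⟩
      have hmem : ∀ s : (S : Subgroup G), y⁻¹ * (s : G) * y ∈ (T : Subgroup C).map C.subtype := fun s => by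
        have h1 : (s : G) ∈ ((y • R : Sylow 2 G) : Subgroup G) := by rw [hy]; exact s.2
        rw [Sylow.coe_subgroup_smul, mem_pointwise_smul_iff_inv_smul_mem] at h1
        have h2 : (MulAut.conj y)⁻¹ (s : G) ∈ (T : Subgroup C).map C.subtype := h1
        rwa [MulAut.conj_inv_apply] at h2
      obtain ⟨s', hs', es⟩ := hmem s
      obtain ⟨t', ht', et⟩ := hmem t
      have hcomm := congrArg Subtype.val (congrArg Subtype.val
        ((inferInstance : IsMulCommutative (T : Subgroup C)).is_comm.comm ⟨s', hs'⟩ ⟨t', ht'⟩))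
      simp only [Subgroup.coe_subtype] at es et
      simp only [Subgroup.coe_mul, es, et] at hcomm
      refine Subtype.ext ?_
      have : y⁻¹ * ((s : G) * t) * y = y⁻¹ * ((t : G) * s) * y := by
        calc _ = y⁻¹ * s * y * (y⁻¹ * t * y) := by group
          _ = y⁻¹ * t * y * (y⁻¹ * s * y) := hcomm
          _ = _ := by group
      exact mul_left_cancel (mul_right_cancel this)
    haveI : Group.IsSolvable C := isSolvable_of_normalizer_le rfl T fun y _ => by
      rw [hTeq]
      exact mem_centralizer_iff.2 fun x hx => hQcent x hx y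
    set N := normalizer (Q : Set G)
    haveI : Group.IsSolvable N := by
      set f := Q.normalizerMonoidHom
      haveI : Group.IsSolvable f.range := by
        haveI : Fintype Q := Fintype.ofFinite Q
        classical
        let φ : MulAut Q →* Equiv.Perm Q :=
          { toFun := fun b => b.toEquiv, map_one' := rfl, map_mul' := fun _ _ => rfl }
        have hd : Nat.card f.range ∣ 24 := by
          refine (card_subgroup_dvd_card f.range).trans ?_
          refine (card_dvd_of_injective φ fun b c hbc => MulEquiv.ext (Equiv.ext_iff.1 hbc)).trans ?_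
          rw [Nat.card_perm, e]; rfl
        exact A8Sub.isSolvable_of_card_le_hundred _ (le_trans (Nat.le_of_dvd (by norm_num) hd) (by norm_num))
          fun h60 => by rw [h60] at hd; norm_num at hd
      refine Group.isSolvable_of_ker_le_range (inclusion (Subgroup.centralizer_le_normalizer _ : C ≤ N))
        f.rangeRestrict fun y hy => ?_
      rw [MonoidHom.ker_rangeRestrict, normalizerMonoidHom_ker] at hy
      exact ⟨⟨y, hy⟩, rfl⟩
    have h8N : 8 ∣ Nat.card N := by
      have hle : (S : Subgroup G) ≤ N := by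
        intro s hs'
        have hidx : (Q.subgroupOf (S : Subgroup G)).index = 2 := by
          have h1 := (Q.subgroupOf (S : Subgroup G)).index_mul_card
          rw [Nat.card_congr (subgroupOfEquivOfLe hQS).toEquiv, e, hS] at h1
          norm_num at h1
          omega
        haveI := Subgroup.normal_of_index_eq_two hidx
        refine mem_normalizer_iff.2 fun x => ?_
        constructor
        · intro hx
          exact (inferInstance : (Q.subgroupOf (S : Subgroup G)).Normal).conj_mem ⟨x, hQS hx⟩ hx ⟨s, hs'⟩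
        · intro hx
          have h1 := (inferInstance : (Q.subgroupOf (S : Subgroup G)).Normal).conj_mem ⟨_, hQS hx⟩ hx ⟨s, hs'⟩⁻¹
          simpa [mem_subgroupOf, mul_assoc] using h1
      exact (show (2 : ℕ) ^ 3 = 8 by norm_num) ▸ hS ▸ card_dvd_of_le hle
    have h24N : 24 ∣ Nat.card N := by omega
    obtain ⟨H, hH⟩ := exists_of_solvable (G := N) h24N (coprime_div_of_dvd h24N (card_subgroup_dvd_card _)
      (by rw [hcG, Nat.mul_div_cancel_left _ (by norm_num : 0 < 24)]; exact hc))
    exact ⟨H.map N.subtype, by rwa [card_map_of_injective N.subtype_injective]⟩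
  · -- automizer of order seven needs an elementary abelian Sylow subgroup
    have hQeq : Q = (S : Subgroup G) := eq_of_le_of_card_ge hQS (by rw [hS, h8]; norm_num)
    subst hQeq
    exact absurd hexp hE

end Cfsg.Agent.HallNumber
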